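import Cfsg.Agent.Lib.Helper9.TCData.SuzD1.S0
import Cfsg.Agent.Lib.Helper9.TCData.SuzD1.S1
import Cfsg.Agent.Lib.Helper9.TCData.SuzD1.S2
import Cfsg.Agent.Lib.Helper9.TCData.SuzD1.S3
import Cfsg.Agent.Lib.Helper9.TCData.SuzD1.S4
import Cfsg.Agent.Lib.Helper9.TCData.SuzD1.S5
import Cfsg.Agent.Lib.Helper9.TCData.SuzD1.S6
import Cfsg.Agent.Lib.Helper9.TCData.SuzD1.S7
import Cfsg.Agent.Lib.Helper9.TCData.SuzD1.S8
import Cfsg.Agent.Lib.Helper9.TCData.SuzD1.S9
import Cfsg.Agent.Lib.Helper9.TCData.SuzD1.S10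

set_option autoImplicit false
set_option maxRecDepth 1000000

namespace Cfsg.Agent.Helper9.TCData.SuzD1
open Cfsg.Agent.Helper9.TC2


theorem hE0 : ∀ u < 1396, chkE tab 0 u = true := by
  have h0 : ∀ u < 0, (fun u => chkE tab 0 u) u = true := range_zero
  have h1 : ∀ u < 1396, (fun u => chkE tab 0 u) u = true := ext_range (a := 0) (len := 1396) h0 e0_0
  exact h1

theorem hE1 : ∀ u < 1396, chkE tab 1 u = true := by
  have h0 : ∀ u < 0, (fun u => chkE tab 1 u) u = true := range_zero
  have h1 : ∀ u < 1396, (fun u => chkE tab 1 u) u = true := ext_range (a := 0) (len := 1396) h0 e1_0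
  exact h1

theorem hE2 : ∀ u < 1396, chkE tab 2 u = true := by
  have h0 : ∀ u < 0, (fun u => chkE tab 2 u) u = true := range_zero
  have h1 : ∀ u < 1396, (fun u => chkE tab 2 u) u = true := ext_range (a := 0) (len := 1396) h0 e2_0
  exact h1

theorem hE3 : ∀ u < 1396, chkE tab 3 u = true := by
  have h0 : ∀ u < 0, (fun u => chkE tab 3 u) u = true := range_zero
  have h1 : ∀ u < 1396, (fun u => chkE tab 3 u) u = true := ext_range (a := 0) (len := 1396) h0 e3_0
  exact h1

theorem hE4 : ∀ u < 1396, chkE tab 4 u = true := by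
  have h0 : ∀ u < 0, (fun u => chkE tab 4 u) u = true := range_zero
  have h1 : ∀ u < 1396, (fun u => chkE tab 4 u) u = true := ext_range (a := 0) (len := 1396) h0 e4_0
  exact h1

theorem hE5 : ∀ u < 1396, chkE tab 5 u = true := by
  have h0 : ∀ u < 0, (fun u => chkE tab 5 u) u = true := range_zero
  have h1 : ∀ u < 1396, (fun u => chkE tab 5 u) u = true := ext_range (a := 0) (len := 1396) h0 e5_0
  exact h1

theorem hL : ∀ u < 1396, chkL tab u = true := by
  have h0 : ∀ u < 0, (fun u => chkL tab u) u = true := range_zero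
  have h1 : ∀ u < 1396, (fun u => chkL tab u) u = true := ext_range (a := 0) (len := 1396) h0 l_0
  exact h1

theorem hF : ∀ u < 416, chkFin tab u = true := by
  have h0 : ∀ u < 0, (fun u => chkFin tab u) u = true := range_zero
  have h1 : ∀ u < 400, (fun u => chkFin tab u) u = true := ext_range (a := 0) (len := 400) h0 f_0
  have h2 : ∀ u < 416, (fun u => chkFin tab u) u = true := ext_range (a := 400) (len := 16) h1 f_1
  exact h2

theorem hC : ∀ u < 1396, chkCls tab u = true := by
  have h0 : ∀ u < 0, (fun u => chkCls tab u) u = true := range_zero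
  have h1 : ∀ u < 1396, (fun u => chkCls tab u) u = true := ext_range (a := 0) (len := 1396) h0 c_0
  exact h1

theorem hM1 : ∀ u < 416, chkM1 tab u = true := by
  have h0 : ∀ u < 0, (fun u => chkM1 tab u) u = true := range_zero
  have h1 : ∀ u < 416, (fun u => chkM1 tab u) u = true := ext_range (a := 0) (len := 416) h0 m1_0
  exact h1

theorem hM2 : ∀ u < 416, chkFix tab mwords u = true := by
  have h0 : ∀ u < 0, (fun u => chkFix tab mwords u) u = true := range_zero
  have h1 : ∀ u < 70, (fun u => chkFix tab mwords u) u = true := ext_range (a := 0) (len := 70) h0 m2_0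
  have h2 : ∀ u < 140, (fun u => chkFix tab mwords u) u = true := ext_range (a := 70) (len := 70) h1 m2_1
  have h3 : ∀ u < 210, (fun u => chkFix tab mwords u) u = true := ext_range (a := 140) (len := 70) h2 m2_2
  have h4 : ∀ u < 280, (fun u => chkFix tab mwords u) u = true := ext_range (a := 210) (len := 70) h3 m2_3
  have h5 : ∀ u < 350, (fun u => chkFix tab mwords u) u = true := ext_range (a := 280) (len := 70) h4 m2_4
  have h6 : ∀ u < 416, (fun u => chkFix tab mwords u) u = true := ext_range (a := 350) (len := 66) h5 m2_5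
  exact h6

theorem hO1 : ∀ u < 416, chkO1 tab orb u = true := by
  have h0 : ∀ u < 0, (fun u => chkO1 tab orb u) u = true := range_zero
  have h1 : ∀ u < 416, (fun u => chkO1 tab orb u) u = true := ext_range (a := 0) (len := 416) h0 o1_0
  exact h1

theorem hO2 : ∀ u < 416, chkO2 tab orb u = true := by
  have h0 : ∀ u < 0, (fun u => chkO2 tab orb u) u = true := range_zero
  have h1 : ∀ u < 416, (fun u => chkO2 tab orb u) u = true := ext_range (a := 0) (len := 416) h0 o2_0
  exact h1

theorem hOL : ∀ u < 416, Nat.blt (orb.lab u) 3 = true := by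
  have h0 : ∀ u < 0, (fun u => Nat.blt (orb.lab u) 3) u = true := range_zero
  have h1 : ∀ u < 416, (fun u => Nat.blt (orb.lab u) 3) u = true := ext_range (a := 0) (len := 416) h0 ol_0
  exact h1

theorem hSlp : ∀ u < 416, chkSlp tab slp u = true := by
  have h0 : ∀ u < 0, (fun u => chkSlp tab slp u) u = true := range_zero
  have h1 : ∀ u < 18, (fun u => chkSlp tab slp u) u = true := ext_range (a := 0) (len := 18) h0 sl_0
  have h2 : ∀ u < 36, (fun u => chkSlp tab slp u) u = true := ext_range (a := 18) (len := 18) h1 sl_1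
  have h3 : ∀ u < 54, (fun u => chkSlp tab slp u) u = true := ext_range (a := 36) (len := 18) h2 sl_2
  have h4 : ∀ u < 72, (fun u => chkSlp tab slp u) u = true := ext_range (a := 54) (len := 18) h3 sl_3
  have h5 : ∀ u < 90, (fun u => chkSlp tab slp u) u = true := ext_range (a := 72) (len := 18) h4 sl_4
  have h6 : ∀ u < 108, (fun u => chkSlp tab slp u) u = true := ext_range (a := 90) (len := 18) h5 sl_5
  have h7 : ∀ u < 126, (fun u => chkSlp tab slp u) u = true := ext_range (a := 108) (len := 18) h6 sl_6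
  have h8 : ∀ u < 144, (fun u => chkSlp tab slp u) u = true := ext_range (a := 126) (len := 18) h7 sl_7
  have h9 : ∀ u < 162, (fun u => chkSlp tab slp u) u = true := ext_range (a := 144) (len := 18) h8 sl_8
  have h10 : ∀ u < 180, (fun u => chkSlp tab slp u) u = true := ext_range (a := 162) (len := 18) h9 sl_9
  have h11 : ∀ u < 198, (fun u => chkSlp tab slp u) u = true := ext_range (a := 180) (len := 18) h10 sl_10
  have h12 : ∀ u < 216, (fun u => chkSlp tab slp u) u = true := ext_range (a := 198) (len := 18) h11 sl_11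
  have h13 : ∀ u < 234, (fun u => chkSlp tab slp u) u = true := ext_range (a := 216) (len := 18) h12 sl_12
  have h14 : ∀ u < 252, (fun u => chkSlp tab slp u) u = true := ext_range (a := 234) (len := 18) h13 sl_13
  have h15 : ∀ u < 270, (fun u => chkSlp tab slp u) u = true := ext_range (a := 252) (len := 18) h14 sl_14
  have h16 : ∀ u < 288, (fun u => chkSlp tab slp u) u = true := ext_range (a := 270) (len := 18) h15 sl_15
  have h17 : ∀ u < 306, (fun u => chkSlp tab slp u) u = true := ext_range (a := 288) (len := 18) h16 sl_16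
  have h18 : ∀ u < 324, (fun u => chkSlp tab slp u) u = true := ext_range (a := 306) (len := 18) h17 sl_17
  have h19 : ∀ u < 342, (fun u => chkSlp tab slp u) u = true := ext_range (a := 324) (len := 18) h18 sl_18
  have h20 : ∀ u < 360, (fun u => chkSlp tab slp u) u = true := ext_range (a := 342) (len := 18) h19 sl_19
  have h21 : ∀ u < 378, (fun u => chkSlp tab slp u) u = true := ext_range (a := 360) (len := 18) h20 sl_20
  have h22 : ∀ u < 396, (fun u => chkSlp tab slp u) u = true := ext_range (a := 378) (len := 18) h21 sl_21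
  have h23 : ∀ u < 414, (fun u => chkSlp tab slp u) u = true := ext_range (a := 396) (len := 18) h22 sl_22
  have h24 : ∀ u < 416, (fun u => chkSlp tab slp u) u = true := ext_range (a := 414) (len := 2) h23 sl_23
  exact h24

theorem hT0 : ∀ u < 416, chkTree tab (lidx 0) (lpar 0) (lgi 0) 0 [0, 1, 2, 3, 4, 5, 140, 141] u = true := by
  have h0 : ∀ u < 0, (fun u => chkTree tab (lidx 0) (lpar 0) (lgi 0) 0 [0, 1, 2, 3, 4, 5, 140, 141] u) u = true := range_zero
  have h1 : ∀ u < 416, (fun u => chkTree tab (lidx 0) (lpar 0) (lgi 0) 0 [0, 1, 2, 3, 4, 5, 140, 141] u) u = true := ext_range (a := 0) (len := 416) h0 tr0x_0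
  exact h1

theorem hT1 : ∀ u < 416, chkTree tab (lidx 1) (lpar 1) (lgi 1) 1 [0, 1, 2, 3, 4, 140, 141] u = true := by
  have h0 : ∀ u < 0, (fun u => chkTree tab (lidx 1) (lpar 1) (lgi 1) 1 [0, 1, 2, 3, 4, 140, 141] u) u = true := range_zero
  have h1 : ∀ u < 416, (fun u => chkTree tab (lidx 1) (lpar 1) (lgi 1) 1 [0, 1, 2, 3, 4, 140, 141] u) u = true := ext_range (a := 0) (len := 416) h0 tr1x_0
  exact h1

theorem hT2 : ∀ u < 416, chkTree tab (lidx 2) (lpar 2) (lgi 2) 2 [0, 2, 3, 4, 140, 141] u = true := by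
  have h0 : ∀ u < 0, (fun u => chkTree tab (lidx 2) (lpar 2) (lgi 2) 2 [0, 2, 3, 4, 140, 141] u) u = true := range_zero
  have h1 : ∀ u < 416, (fun u => chkTree tab (lidx 2) (lpar 2) (lgi 2) 2 [0, 2, 3, 4, 140, 141] u) u = true := ext_range (a := 0) (len := 416) h0 tr2x_0
  exact h1

theorem hT3 : ∀ u < 416, chkTree tab (lidx 3) (lpar 3) (lgi 3) 4 [3, 4, 140, 141] u = true := by
  have h0 : ∀ u < 0, (fun u => chkTree tab (lidx 3) (lpar 3) (lgi 3) 4 [3, 4, 140, 141] u) u = true := range_zero
  have h1 : ∀ u < 416, (fun u => chkTree tab (lidx 3) (lpar 3) (lgi 3) 4 [3, 4, 140, 141] u) u = true := ext_range (a := 0) (len := 416) h0 tr3x_0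
  exact h1

theorem hT4 : ∀ u < 416, chkTree tab (lidx 4) (lpar 4) (lgi 4) 13 [4, 140, 141] u = true := by
  have h0 : ∀ u < 0, (fun u => chkTree tab (lidx 4) (lpar 4) (lgi 4) 13 [4, 140, 141] u) u = true := range_zero
  have h1 : ∀ u < 416, (fun u => chkTree tab (lidx 4) (lpar 4) (lgi 4) 13 [4, 140, 141] u) u = true := ext_range (a := 0) (len := 416) h0 tr4x_0
  exact h1

theorem hT5 : ∀ u < 416, chkTree tab (lidx 5) (lpar 5) (lgi 5) 7 [140, 141] u = true := by
  have h0 : ∀ u < 0, (fun u => chkTree tab (lidx 5) (lpar 5) (lgi 5) 7 [140, 141] u) u = true := range_zero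
  have h1 : ∀ u < 416, (fun u => chkTree tab (lidx 5) (lpar 5) (lgi 5) 7 [140, 141] u) u = true := ext_range (a := 0) (len := 416) h0 tr5x_0
  exact h1

theorem hX : ∀ u < 416, Nat.beq ((runT tab xw)^[13] u) u = true := by
  have h0 : ∀ u < 0, (fun u => Nat.beq ((runT tab xw)^[13] u) u) u = true := range_zero
  have h1 : ∀ u < 122, (fun u => Nat.beq ((runT tab xw)^[13] u) u) u = true := ext_range (a := 0) (len := 122) h0 x_0
  have h2 : ∀ u < 244, (fun u => Nat.beq ((runT tab xw)^[13] u) u) u = true := ext_range (a := 122) (len := 122) h1 x_1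
  have h3 : ∀ u < 366, (fun u => Nat.beq ((runT tab xw)^[13] u) u) u = true := ext_range (a := 244) (len := 122) h2 x_2
  have h4 : ∀ u < 416, (fun u => Nat.beq ((runT tab xw)^[13] u) u) u = true := ext_range (a := 366) (len := 50) h3 x_3
  exact h4

theorem hE : ∀ c < 6, ∀ u < 1396, chkE tab c u = true := by
  intro c hc
  interval_cases c
  · exact hE0
  · exact hE1
  · exact hE2
  · exact hE3
  · exact hE4
  · exact hE5

end Cfsg.Agent.Helper9.TCData.SuzD1
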